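import Groth.Agent.AbVar.K132.GreenNum
import Groth.Agent.AbVar.K523.ThetaPow
import Groth.Agent.S17501
import Groth.Agent.AbVar.K529.ChiSq
import Groth.Prelude.Def_ShStab

/-!
# Sections of line bundles of small slope on an abelian variety

`h0_le`: `A` an abelian variety of dimension `g ≥ 1` over a field, `L`, `B` ample, `χ(L) = ρ + 1`, `0 < r < ρ` and
`ρ (B · L^(g-1)) ≤ r (L^g)` (in terms of Hilbert polynomials); then `h⁰(B) ≤ r`.
-/

set_option autoImplicit false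
set_option linter.unusedSectionVars false
universe u

open CategoryTheory CategoryTheory.Limits AlgebraicGeometry

namespace K507.GreenBound

open Groth.Agent Groth.Agent.Grpsch.PicGrp K524.Index K524.Chi K523.IndexCount
open Polynomial (C)

section num

variable {Ψ P : Polynomial ℚ} {g r ρ : ℕ}

/-- The numerical part. -/
theorem num (hg : 1 ≤ g) (hr : 0 < r) (hrρ : r < ρ)
    (hΨ : ∀ N : ℕ, 1 ≤ N → P.eval (N : ℚ) = (N : ℚ) ^ g * Ψ.eval ((N : ℚ)⁻¹)) (h0 : P.eval 0 = ρ + 1)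
    (hroots : Multiset.card (Ψ.map (algebraMap ℚ ℝ)).roots = Ψ.natDegree)
    (hpos : 0 = Multiset.card ((Ψ.map (algebraMap ℚ ℝ)).roots.filter (fun t => 0 < t)))
    (hc : (ρ : ℚ) * Ψ.coeff (g - 1) ≤ r * (g * (ρ + 1))) : Ψ.eval 0 < r + 1 := by
  obtain ⟨h1, h2⟩ := K132.GreenNum.deg_lead Ψ P g hΨ (by rw [h0]; positivity)
  have hinj : Function.Injective (algebraMap ℚ ℝ) := (algebraMap ℚ ℝ).injective
  have h3 : (Ψ.map (algebraMap ℚ ℝ)).natDegree = g := by
    rw [Polynomial.natDegree_map_eq_of_injective hinj, h1]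
  have h4 : (Ψ.map (algebraMap ℚ ℝ)).leadingCoeff = ρ + 1 := by
    rw [Polynomial.leadingCoeff_map_of_injective hinj, h2, h0]
    simp
  have h5 := K132.GreenNum.eval_zero_lt (Ψ.map (algebraMap ℚ ℝ)) hg hr hrρ h3 h4 (by rw [hroots, h1])
    (fun t ht => by
      by_contra hlt
      push Not at hlt
      have h7 : t ∈ (Ψ.map (algebraMap ℚ ℝ)).roots.filter (fun t => 0 < t) := Multiset.mem_filter.2 ⟨ht, hlt⟩
      have h8 := Multiset.card_pos_iff_exists_mem.2 ⟨t, h7⟩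
      omega)
    (by
      rw [Polynomial.coeff_map]
      have h9 : (((ρ : ℚ) * Ψ.coeff (g - 1) : ℚ) : ℝ) ≤ ((r * (g * (ρ + 1)) : ℚ) : ℝ) := by exact_mod_cast hc
      push_cast at h9
      exact h9)
  have h6 : (Ψ.map (algebraMap ℚ ℝ)).eval 0 = ((Ψ.eval 0 : ℚ) : ℝ) := by
    rw [← map_zero (algebraMap ℚ ℝ), Polynomial.eval_map_apply]
    rfl
  rw [h6] at h5
  exact_mod_cast h5

theorem coeff_comp_neg (Ψ : Polynomial ℚ) (i : ℕ) : (Ψ.comp (C (-1) * Polynomial.X)).coeff i = (-1) ^ i * Ψ.coeff i := by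
  rw [Polynomial.comp_C_mul_X_coeff, mul_comm]

theorem coeff_shift (g : ℕ) (hg : 1 ≤ g) (c : ℚ) :
    ((C c * Polynomial.X ^ g).comp (Polynomial.X + C 1)).coeff (g - 1) = c * g := by
  rw [Polynomial.mul_comp, Polynomial.C_comp, Polynomial.X_pow_comp, Polynomial.coeff_C_mul, Polynomial.C_1,
    Polynomial.coeff_X_add_one_pow]
  congr 1
  have h1 : g.choose (g - 1) = g := by
    obtain ⟨n, rfl⟩ := Nat.exists_eq_succ_of_ne_zero (by omega : g ≠ 0)
    simp
  rw [h1]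

/-- Translation of the slope inequality. -/
theorem slope (hg : 1 ≤ g)
    (hs : (r : ℚ) * (StabCat.alpha (g - 1) (C ((ρ : ℚ) + 1) * (C ((ρ : ℚ) + 1) * Polynomial.X ^ g) -
        (C ((ρ : ℚ) + 1) * Polynomial.X ^ g).comp (Polynomial.X + C 1)) -
          (ρ : ℚ) * StabCat.alpha (g - 1) (C ((ρ : ℚ) + 1) * Polynomial.X ^ g)) ≤
      (ρ : ℚ) * (StabCat.alpha (g - 1) (C ((-1) ^ g) * Ψ.comp (C (-1) * Polynomial.X)) -
        StabCat.alpha (g - 1) (C ((ρ : ℚ) + 1) * Polynomial.X ^ g))) :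
    (ρ : ℚ) * Ψ.coeff (g - 1) ≤ r * (g * (ρ + 1)) := by
  have hX : (Polynomial.X ^ g : Polynomial ℚ).coeff (g - 1) = 0 := by
    rw [Polynomial.coeff_X_pow, if_neg (by omega)]
  have hf : (0 : ℚ) < ((g - 1).factorial : ℚ) := by exact_mod_cast Nat.factorial_pos _
  have hsq : ((-1 : ℚ) ^ g) * (-1) ^ (g - 1) = -1 := by
    obtain ⟨n, rfl⟩ := Nat.exists_eq_succ_of_ne_zero (by omega : g ≠ 0)
    rw [Nat.succ_sub_one, pow_succ]
    have : ((-1 : ℚ) ^ n) * (-1) ^ n = 1 := by rw [← mul_pow]; simp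
    linear_combination -this
  simp only [StabCat.alpha, Polynomial.coeff_sub, Polynomial.coeff_C_mul, coeff_shift g hg, coeff_comp_neg, hX,
    mul_zero, zero_sub, sub_zero] at hs
  rw [← mul_assoc ((-1 : ℚ) ^ g), hsq] at hs
  have h1 : ((g - 1).factorial : ℚ) * ((ρ : ℚ) * Ψ.coeff (g - 1)) ≤
      ((g - 1).factorial : ℚ) * (r * (g * (ρ + 1))) := by linarith
  exact le_of_mul_le_mul_left h1 hf

end num

section main

variable (k : Type u) [Field k] {A : Over (Spec (CommRingCat.of k))} [GrpObj A] [IsProper A.hom]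
  [GeometricallyIntegral A.hom] {g : ℕ}

/-- An effective line bundle of small slope has few sections. -/
theorem h0_le (hg : topologicalKrullDim A.left = g) (hg1 : 1 ≤ g) (L B G : A.left.Modules) (hL : CohB1.IsAmple L)
    (hB : CohB1.IsAmple B) (hG : PicF.IsInvertible G) (hBG : CohB1.tensorMod B G ≅ Coh.structureModule A.left)
    {ρ r : ℕ} (hρ : chi (mk L hL.1) = ρ + 1) (hr : 0 < r) (hrρ : r < ρ) {pO pG : Polynomial ℚ}
    (hpO : @ShStab.IsHilbPoly k _ A.left ⟨A.hom⟩ L (Coh.structureModule A.left) pO)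
    (hpG : @ShStab.IsHilbPoly k _ A.left ⟨A.hom⟩ L G pG)
    (hs : (r : ℚ) * (StabCat.alpha (g - 1) (C ((ρ : ℚ) + 1) * pO - pO.comp (Polynomial.X + C 1)) -
        (ρ : ℚ) * StabCat.alpha (g - 1) pO) ≤ (ρ : ℚ) * (StabCat.alpha (g - 1) pG - StabCat.alpha (g - 1) pO)) :
    @Module.finrank k (Coh.HH A.left B 0) _ _ (@Coh.moduleOver k _ A.left ⟨A.hom⟩ B 0) ≤ r := by
  set b : Pic A.left := mk B hB.1 with hb
  set l : Pic A.left := mk L hL.1 with hl
  have D := S17501.data k A g hg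
  obtain ⟨Ψ, -, hΨ⟩ := exists_poly D b l
  obtain ⟨P, -, hP⟩ := D.snapper l b
  -- reciprocity
  have hrec : ∀ N : ℕ, 1 ≤ N → P.eval (N : ℚ) = (N : ℚ) ^ g * Ψ.eval ((N : ℚ)⁻¹) := by
    intro N hN
    have h1 := hΨ N hN 1
    rw [zpow_one, Int.cast_one, one_div] at h1
    rw [← hP N, ← h1, mul_comm]
  have hP0 : P.eval 0 = ρ + 1 := by
    have h1 := hP 0
    rw [pow_zero, mul_one, Nat.cast_zero, hρ] at h1
    rw [← h1]
    push_cast
    rfl
  have hbidx : HasIdx b 0 := K523.ThetaPow.ample_idx g hg B hB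
  have hΨn : ∀ n : ℕ, Ψ.eval (n : ℚ) = chi (b * l ^ n) := by
    intro n
    have h1 := hΨ 1 one_pos n
    rw [pow_one, zpow_natCast, Nat.cast_one, one_pow, one_mul, div_one, Int.cast_natCast] at h1
    exact h1.symm
  obtain ⟨hroots, hpos⟩ := K523.IndexCount.main D b l ⟨L, hL, rfl⟩ 0 hbidx Ψ hΨn
  -- the Hilbert polynomials
  have htw : ∀ (F : A.left.Modules) (hF : PicF.IsInvertible F) (n : ℕ),
      @Curv2.euler k _ A.left ⟨A.hom⟩ (CohB1.tensorMod F (CohB1.tensorPow L n)) = chi (mk F hF * l ^ n) := by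
    intro F hF n
    rw [hl, ← mk_tensorPow hL.1, mk_mul_mk, chi_mk]
  have hlpow : ∀ n : ℕ, (chi (l ^ n) : ℚ) = (ρ + 1) * (n : ℚ) ^ g := by
    intro n
    rw [K523.IndexGeo.chi_pow g hg, hρ]
    push_cast
    ring
  have e1 : pO = C ((ρ : ℚ) + 1) * Polynomial.X ^ g := by
    refine K523.HilbHom.eq_of_eval_nat 0 fun n _ => ?_
    have h1 : ((chi (mk (Coh.structureModule A.left) Fdesc.LocGen.isInvertible_structureModule * l ^ n) : ℤ) : ℚ) =
        pO.eval (n : ℚ) := by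
      rw [← htw]
      exact hpO n
    have h2 : mk (Coh.structureModule A.left) Fdesc.LocGen.isInvertible_structureModule * l ^ n = l ^ n := one_mul (l ^ n)
    rw [← h1, h2, hlpow]
    simp
  have e2 : pG = C ((-1) ^ g) * Ψ.comp (C (-1) * Polynomial.X) := by
    refine K523.HilbHom.eq_of_eval_nat 0 fun n _ => ?_
    have h1 : ((chi (mk G hG * l ^ n) : ℤ) : ℚ) = pG.eval (n : ℚ) := by
      rw [← htw]
      exact hpG n
    have h2 : mk G hG = b⁻¹ := by
      rw [eq_comm, inv_eq_iff_mul_eq_one, hb, mk_mul_mk]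
      exact (mk_eq_iff _ _).2 ⟨hBG⟩
    have h3 : mk G hG * l ^ n = (b * l ^ (-(n : ℤ)))⁻¹ := by
      rw [h2, mul_inv, zpow_neg, inv_inv, zpow_natCast]
    have h4 := hΨ 1 one_pos (-(n : ℤ))
    rw [pow_one, Nat.cast_one, one_pow, one_mul, div_one] at h4
    rw [← h1, h3, K529.ChiSq.chi_inv g hg]
    push_cast at h4 ⊢
    rw [h4]
    simp
  rw [e1, e2] at hs
  have h6 := num hg1 hr hrρ hrec hP0 hroots hpos (slope hg1 hs)
  have h7 : Ψ.eval 0 = (chi b : ℚ) := by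
    have := hΨn 0
    rwa [pow_zero, mul_one, Nat.cast_zero] at this
  have h8 := K524.Bc.chi_eq hB.1 hbidx
  rw [pow_zero, one_mul] at h8
  rw [h7, hb, h8] at h6
  have h9 : (@Module.finrank k (Coh.HH A.left B 0) _ _ (@Coh.moduleOver k _ A.left ⟨A.hom⟩ B 0) : ℚ) < r + 1 := by
    exact_mod_cast h6
  have h10 : @Module.finrank k (Coh.HH A.left B 0) _ _ (@Coh.moduleOver k _ A.left ⟨A.hom⟩ B 0) < r + 1 := by
    exact_mod_cast h9
  omega

end main

end K507.GreenBound
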