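import Groth.Agent.AbVar.K507.GreenBound
import Groth.Agent.AbVar.K132.GreenMain
import Groth.Agent.AbVar.K132.GreenHilb
import Groth.Agent.AbVar.K527.FreeFin
import Groth.Agent.Curves.K333.InvEpi
import Groth.Agent.Dix.IdealModCartier
import Groth.Agent.Models.H74.CohSide
import Groth.Agent.S18221
import Groth.Agent.S18229
import Groth.Agent.S0002

/-!
# The syzygy bundle of an ample line bundle on a simple abelian variety is stable
-/

set_option autoImplicit false
universe u

open CategoryTheory CategoryTheory.Limits AlgebraicGeometry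

namespace K507.GreenStable

open Groth.Agent Groth.Agent.Grpsch.PicGrp K524.Index K524.Chi K523.IndexCount
open Groth.Agent.Sga67.Sec Groth.Agent.Sga67.LocBasis
open Groth.Agent.CurvesB
open Groth.Agent.S18223 (Fr inc prj)
open Polynomial (C)

section app

theorem app_bijective {X : Scheme.{u}} {L : X.Modules} {J : Type u} (ev : Fr X J ⟶ L)
    (hev : Function.Bijective (Sheaf.H.map ((SheafOfModules.toSheaf X.ringCatSheaf).map ev) 0)) :
    Function.Bijective (appS ev (⊤ : X.Opens)) := by
  let g : Coh.HH X (Fr X J) 0 → Coh.HH X L 0 :=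
    Sheaf.H.map ((SheafOfModules.toSheaf X.ringCatSheaf).map ev) 0
  have hg : Function.Bijective g := hev
  have h1 : (fun y => ev.app ⊤ (HZero.equivAdd (Fr X J) y)) = fun y => HZero.equivAdd L (g y) :=
    funext fun y => (HZero.equivAdd_map ev y).symm
  have h2 : Function.Bijective (fun y => HZero.equivAdd L (g y)) :=
    (HZero.equivAdd L).bijective.comp hg
  rw [← h1] at h2
  exact (Function.Bijective.of_comp_iff _ (HZero.equivAdd (Fr X J)).bijective).mp h2

end app

section main

variable (k : Type u) [Field k] [IsAlgClosed k] {X : Over (Spec (CommRingCat.of k))} [GrpObj X] [IsProper X.hom]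
  [Smooth X.hom] [GeometricallyConnected X.hom] {g : ℕ}

theorem main (hg : topologicalKrullDim ↥X.left = g) (hg1 : 1 ≤ g)
    (hsimple : ∀ (B : Over (Spec (CommRingCat.of k))) [GrpObj B] [GeometricallyIntegral B.hom] (i : B ⟶ X) [IsMonHom i]
      [IsClosedImmersion i.left], Subsingleton ↥B.left ∨ IsIso i)
    (L : X.left.Modules) (hL : CohB1.IsAmple L) (J : Type u) (ev : Fr X.left J ⟶ L) [Epi ev]
    (hev : Function.Bijective (Sheaf.H.map ((SheafOfModules.toSheaf X.left.ringCatSheaf).map ev) 0)) :
    @ShStab.IsMuStable k _ X.left ⟨X.hom⟩ L (kernel ev) g := by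
  let _ : X.left.Over (Spec (CommRingCat.of k)) := ⟨X.hom⟩
  have hp : IsProper (X.left ↘ Spec (CommRingCat.of k)) := inferInstanceAs (IsProper X.hom)
  have hsm : Smooth (X.left ↘ Spec (CommRingCat.of k)) := inferInstanceAs (Smooth X.hom)
  have hint : IsIntegral X.left := K528.Irr.isIntegral_of_av X
  have hgr : GeometricallyReduced X.hom := Groth.Agent.Sga3C.GeomRedPerf.geometricallyReduced_of_isReduced X.hom
  have hgir : GeometricallyIrreducible X.hom :=
    Groth.Agent.Fdesc.GeomAlgClosed.geometricallyIrreducible_of_irreducibleSpace X.hom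
  have hgi : GeometricallyIntegral X.hom :=
    GeometricallyIntegral.of_geometricallyReduced_of_geometricallyIrreducible X.hom
  have hbij := app_bijective ev hev
  have hfin : Finite J := K527.FreeFin.finite_of_injective k (Groth.Agent.S2329.isCoh_of_isInvertible hL.1) ev hev.1
  let _ := Fintype.ofFinite J
  have h0 : Module.finrank k (Coh.HH X.left (Coh.structureModule X.left) 0) = 1 :=
    Models.H74.CohSide.finrank_HH_zero_eq_one k
  have hcard := K132.GreenMain.card_eq h0 ev hbij
  have hidx : HasIdx (mk L hL.1) 0 := K523.ThetaPow.ample_idx g hg L hL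
  have hchi := K524.Bc.chi_eq hL.1 hidx
  have hpos := K523.ThetaPow.chi_pos g hg L hL
  have hchi' : chi (mk L hL.1) = (Fintype.card J : ℤ) := by
    rw [hchi, pow_zero, one_mul, ← hcard]
  obtain ⟨ρ, hρ⟩ : ∃ ρ, Fintype.card J = ρ + 1 := ⟨Fintype.card J - 1, by omega⟩
  have hρ1 : 1 ≤ ρ := by
    by_contra hlt
    have hc1 : Fintype.card J = 1 := by omega
    obtain ⟨e⟩ := K132.GreenHilb.nonempty_iso_freeMod (X := X.left) J hc1
    let e1 : Coh.structureModule X.left ≅ Fr X.left J :=
      (Limits.coproductUniqueIso (fun _ : Fin 1 => Coh.structureModule X.left)).symm ≪≫ e.symm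
    have h2 : IsIso (e1.hom ≫ ev) :=
      K333.InvEpi.isIso_of_epi Fdesc.LocGen.isInvertible_structureModule hL.1 _
    have h3 : mk L hL.1 = 1 := (mk_eq_one_iff hL.1).2 ⟨(asIso (e1.hom ≫ ev)).symm⟩
    have h4 := K523.IndexGeo.chi_pow g hg (mk L hL.1) 0
    rw [pow_zero, ← h3, Nat.cast_zero, zero_pow (by omega), zero_mul] at h4
    omega
  obtain ⟨pO, hpO⟩ := K847.HilbBasic.exists_hilbPoly k hL.1
    (S2329.isCoh_of_isInvertible (Fdesc.LocGen.isInvertible_structureModule (X := X.left)))
  have hN := VarietyA.TwistExist.isNoetherian k X.left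
  obtain ⟨pE, hpE⟩ := K847.HilbBasic.exists_hilbPoly k hL.1 (K132.GreenHilb.isCoh_ker hL.1 J ev)
  refine S18221.result k X.left g hg1 hg L hL (kernel ev) ρ hρ1 (K132.GreenHilb.rank_kernel hL.1 J ev hρ) pO pE
    hpO hpE ?_
  intro r hr hrρ G G' hG hGG' pG hpG hs Er hEr
  have hG' : PicF.IsInvertible G' := (Dix.IdealModCartier.isInvertible_of_isInverseOf hGG').1
  have hfG : Module.Finite k (Coh.HH X.left G' 0) := S0002.result k X.left G' (S2329.isCoh_of_isInvertible hG') 0
  refine K132.GreenMain.vanish_of_finrank (k := k) hL.1 ev hbij.1 hEr hG' ?_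
  rcases subsingleton_or_nontrivial (Coh.HH X.left G' 0) with hsub | hnt
  · rw [Module.finrank_zero_of_subsingleton]
    omega
  by_cases hiso : Nonempty (G' ≅ Coh.structureModule X.left)
  · obtain ⟨i⟩ := hiso
    rw [(Fga.PicMon.hmapEquiv k X.left i 0).finrank_eq, h0]
    omega
  have hamp := S18229.result k X hsimple G' hG' hnt hiso
  obtain ⟨i⟩ := hGG'
  refine GreenBound.h0_le k hg hg1 L G' G hL hamp hG i ?_ hr hrρ hpO hpG ?_
  · rw [hchi', hρ]
    push_cast
    rfl
  · have h5 := K132.GreenHilb.hilb_kernel k hL.1 hpO J ev hpE hρ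
    rw [h5] at hs
    exact hs

end main

end K507.GreenStable
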