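import Groth.Agent.Grpsch.Cube

/-!
# Slices of a product over a point of the base, and closedness of the locus of trivial slices
-/

set_option autoImplicit false
universe u

open CategoryTheory Limits MonoidalCategory CartesianMonoidalCategory AlgebraicGeometry

namespace K507.Slice

open Groth.Agent.Grpsch.PicGrp Groth.Agent.Grpsch.Cube

variable {K : Type u} [Field K]

/-- The point of `T` under a `K`-point. -/
noncomputable abbrev pt {T : Over (Spec (CommRingCat.of K))} (t : 𝟙_ (Over (Spec (CommRingCat.of K))) ⟶ T) :
    T.left := t.left (IsLocalRing.closedPoint K)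

/-- The slice `X = X × {t} ⟶ X × T`. -/
noncomputable abbrev sl (X : Over (Spec (CommRingCat.of K))) {T : Over (Spec (CommRingCat.of K))}
    (t : 𝟙_ (Over (Spec (CommRingCat.of K))) ⟶ T) : X ⟶ X ⊗ T := lift (𝟙 X) (toUnit X ≫ t)

/-- The residue field point of a rational point is the rational point, up to an isomorphism. -/
theorem exists_iso_residue {T : Scheme.{u}} (q : T ⟶ Spec (CommRingCat.of K))
    (t : Spec (CommRingCat.of K) ⟶ T) (ht : t ≫ q = 𝟙 _) (z : T)
    (hz : z = t (IsLocalRing.closedPoint K)) :
    T.fromSpecResidueField z = (T.fromSpecResidueField z ≫ q) ≫ t ∧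
    ∃ r : Spec (CommRingCat.of K) ⟶ Spec (T.residueField z), r ≫ T.fromSpecResidueField z = t := by
  subst hz
  have h1 := Scheme.descResidueField_stalkClosedPointTo_fromSpecResidueField K T t
  set d := Scheme.descResidueField (Scheme.stalkClosedPointTo t) with hd
  obtain ⟨ρ, hρ⟩ := Spec.map_surjective
    (T.fromSpecResidueField (t (IsLocalRing.closedPoint K)) ≫ q)
  have h2 : ρ ≫ d = 𝟙 _ := by
    apply Spec.map_injective
    rw [Spec.map_comp, hρ, ← Category.assoc]
    refine (congrArg (· ≫ q) h1).trans ?_
    rw [ht]
    exact (Spec.map_id _).symm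
  have h3 : Mono d := ConcreteCategory.mono_of_injective _ (RingHom.injective _)
  have h4 : d ≫ ρ = 𝟙 _ := by
    rw [← cancel_mono d, Category.assoc, h2, Category.comp_id, Category.id_comp]
  refine ⟨?_, Spec.map d, h1⟩
  rw [← hρ]
  refine Eq.trans ?_ (congrArg (Spec.map ρ ≫ ·) h1)
  change _ = Spec.map ρ ≫ Spec.map d ≫ _
  rw [← Category.assoc, ← Spec.map_comp, h4, Spec.map_id, Category.id_comp]

/-- A class on `X × T` is trivial on the fibre over a rational point iff its slice is trivial. -/
theorem pull_fiberι_eq_one_iff {X T : Over (Spec (CommRingCat.of K))}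
    (t : 𝟙_ (Over (Spec (CommRingCat.of K))) ⟶ T) (c : Pic (X ⊗ T).left) :
    pull ((snd X T).left.fiberι (pt t)) c = 1 ↔ pull (sl X t).left c = 1 := by
  obtain ⟨h1, r, hr⟩ := exists_iso_residue T.hom t.left (Over.w t) (pt t) rfl
  have hfac := Scheme.Hom.fiber_fac (snd X T).left (pt t)
  constructor
  · intro h
    have hw : (sl X t).left ≫ (snd X T).left = (X.hom ≫ r) ≫ T.left.fromSpecResidueField (pt t) := by
      rw [← Over.comp_left, lift_snd, Category.assoc, hr, Over.comp_left]
      rfl
    let m : X.left ⟶ (snd X T).left.fiber (pt t) := pullback.lift (sl X t).left (X.hom ≫ r) hw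
    have : (sl X t).left = m ≫ (snd X T).left.fiberι (pt t) := (pullback.lift_fst _ _ _).symm
    rw [this, pull_comp, h, map_one]
  · intro h
    have hk : (snd X T).left.fiberι (pt t) =
        ((snd X T).left.fiberι (pt t) ≫ (fst X T).left) ≫ (sl X t).left := by
      let F : Over (Spec (CommRingCat.of K)) := Over.mk ((snd X T).left.fiberι (pt t) ≫ (X ⊗ T).hom)
      let j : F ⟶ X ⊗ T := Over.homMk ((snd X T).left.fiberι (pt t)) rfl
      have hj : j = (j ≫ fst X T) ≫ sl X t := by
        apply CartesianMonoidalCategory.hom_ext
        · rw [Category.assoc, lift_fst, Category.comp_id]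
        · rw [Category.assoc, lift_snd, Category.assoc, ← Category.assoc (fst X T), comp_toUnit,
            ← Category.assoc j, comp_toUnit]
          ext1
          change (snd X T).left.fiberι (pt t) ≫ (snd X T).left = F.hom ≫ t.left
          have h2 : F.hom = (snd X T).left.fiberToSpecResidueField (pt t) ≫
              T.left.fromSpecResidueField (pt t) ≫ T.hom := by
            rw [← reassoc_of% hfac]
            change (snd X T).left.fiberι (pt t) ≫ (X ⊗ T).hom = _
            congr 1
            exact (Over.w (snd X T)).symm
          rw [h2, hfac]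
          conv_lhs => rw [h1]
          simp only [Category.assoc]
      exact congrArg Over.Hom.left hj
    rw [hk, pull_comp, h, map_one]

/-- The locus of points of `T` over which a class on `X × T` is trivial is closed, for `X` proper
and geometrically integral. -/
theorem isClosed_trivial {X : Over (Spec (CommRingCat.of K))} [IsProper X.hom]
    [GeometricallyIntegral X.hom] (T : Over (Spec (CommRingCat.of K))) (c : Pic (X ⊗ T).left) :
    IsClosed {z : T.left | pull ((snd X T).left.fiberι z) c = 1} := by
  have h : IsPullback (fst X T).left (snd X T).left X.hom T.hom := IsPullback.of_hasPullback _ _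
  have : Flat X.hom := inferInstance
  have : LocallyOfFinitePresentation X.hom := inferInstance
  have h1 : Flat (snd X T).left := MorphismProperty.of_isPullback h inferInstance
  have h2 : IsProper (snd X T).left := MorphismProperty.of_isPullback h inferInstance
  have h3 : LocallyOfFinitePresentation (snd X T).left :=
    MorphismProperty.of_isPullback h inferInstance
  have h4 : GeometricallyIntegral (snd X T).left :=
    MorphismProperty.of_isPullback h inferInstance
  obtain ⟨L, hL, rfl⟩ := exists_mk c
  have := Groth.Agent.Grpsch.CubeClosed.isClosed_trivialLocus (snd X T).left L hL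
  convert this using 3
  rw [pull_mk, mk_eq_one_iff]

end K507.Slice
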